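import Cfsg.Agent.DCoset.HN.CoverDefs

/-! Generated by tools/dcoset/emit.py: cover checks. -/

set_option Elab.async false
set_option maxRecDepth 100000

namespace Cfsg.Agent.DCoset.HN

open Cfsg.Agent.DCoset Cfsg.Agent.CosetCert

theorem u_all : allFrom (Cover.checkU cover rules tab) 0 4 = true := by
  decide +kernel

theorem tr_all : allFrom (Cover.checkTr cover tab) 0 352 = true := by
  decide +kernel

theorem stab_all :
    allFrom (fun m => allFrom (Cover.checkStab cover steps tab m) 0 (nStab m)) 0 9 = true := by
  decide +kernel

theorem bounds_all : allFrom (fun m => allFrom (fun l =>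
    Nat.ble (Nat.add (chOff (Nat.add (Nat.mul m 6) l)) (chCnt (Nat.add (Nat.mul m 6) l))) (nStab m))
    0 6) 0 9 = true := by
  decide +kernel

theorem src_all : allFrom (fun j => Nat.blt (nodeSrc j) j) 1 10 = true := by
  decide +kernel

end Cfsg.Agent.DCoset.HN
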