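import Cfsg.Agent.DCoset.HN.Table

/-! Generated by tools/dcoset/emit.py: rules and relators. -/

set_option Elab.async false

namespace Cfsg.Agent.DCoset.HN

open Cfsg.Agent.DCoset Cfsg.Agent.CosetCert

def rSS : Store := (.leaf 0x4000400040004000300030003000300020002000200020001000100010001000000000000000000000000)

noncomputable def rS : Nat → Nat := get16 rSS

def rDS : Store := (.leaf 0x4000400030002000300030001000400020002000400010001000100020003000000000000000000000000)

noncomputable def rD : Nat → Nat := get16 rDS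

def rUS : Store := (.node 11 (.node 5 (.node 2 (.node 1 (.leaf 0x1) (.leaf 0x10001)) (.node 3 (.leaf 0x20001) (.node 4 (.leaf 0x30001) (.leaf 0x40001)))) (.node 8 (.node 6 (.leaf 0x50001) (.node 7 (.leaf 0x1) (.leaf 0x10001))) (.node 9 (.leaf 0x20001) (.node 10 (.leaf 0x30001) (.leaf 0x1))))) (.node 16 (.node 13 (.node 12 (.leaf 0x10001) (.leaf 0x20001)) (.node 14 (.leaf 0x30001) (.node 15 (.leaf 0x1) (.leaf 0x10001)))) (.node 19 (.node 17 (.leaf 0x20001) (.node 18 (.leaf 0x30001) (.leaf 0x1))) (.node 20 (.leaf 0x10001) (.node 21 (.leaf 0x20001) (.leaf 0x30001))))))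

def rVS : Store := (.node 11 (.node 5 (.node 2 (.node 1 (.leaf 0x1) (.leaf 0x10001)) (.node 3 (.leaf 0x20001) (.node 4 (.leaf 0x30001) (.leaf 0x40001)))) (.node 8 (.node 6 (.leaf 0x50001) (.node 7 (.leaf 0x1) (.leaf 0x10001))) (.node 9 (.leaf 0x20001) (.node 10 (.leaf 0x30001) (.leaf 0x1))))) (.node 16 (.node 13 (.node 12 (.leaf 0x10001) (.leaf 0x20001)) (.node 14 (.leaf 0x30001) (.node 15 (.leaf 0x1) (.leaf 0x10001)))) (.node 19 (.node 17 (.leaf 0x20001) (.node 18 (.leaf 0x30001) (.leaf 0x1))) (.node 20 (.leaf 0x10001) (.node 21 (.leaf 0x20001) (.leaf 0x30001))))))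

def invTS : Store := (.leaf 0x10002000300040000)

noncomputable def invT : Nat → Nat := get16 invTS

def mulTS : Store := (.leaf 0x4000300020001000500030002000100050004000200010005000400030001000500040003000200050004000300020001)

noncomputable def mulT : Nat → Nat := get16 mulTS

def relHdS : Store := (.leaf 0x1)

noncomputable def relHd : Nat → Nat := get16 relHdS

def relLenS : Store := (.leaf 0x2)

noncomputable def relLen : Nat → Nat := get16 relLenS

def relWS : Store := (.node 1 (.leaf 0x40001) (.leaf 0x40001))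

def relTS : Store := (.leaf 0x10001)

noncomputable def relT : Nat → Nat := get16 relTS

def relTlS : Store := (.leaf 0x40001)

/-- The rules and relators. -/
noncomputable def rules : Rules where
  nT := 5
  invT := invT
  mulT a b := mulT (Nat.add (Nat.mul a 5) b)
  nRule := 22
  rS := rS
  rD := rD
  rU := rUS.get
  rV := rVS.get
  nRel := 1
  relHd := relHd
  relLen := relLen
  relW r m := relWS.get (Nat.add (Nat.mul r 2) m)
  relT r m := relT (Nat.add (Nat.mul r 2) m)
  relTl := relTlS.get

end Cfsg.Agent.DCoset.HN
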